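import Groth.Agent.L10.DTen.SymMon
import Groth.Agent.L10.DTen.Single
import Groth.Agent.L10.DTen.Exact

/-!
The commutative monoid of isomorphism classes of the derived category of a ring under `⊗^L`.
-/

set_option autoImplicit false
set_option linter.style.haveILetI false
set_option backward.defeqAttrib.useBackward true
set_option backward.isDefEq.respectTransparency false
set_option backward.isDefEq.respectTransparency.types false

noncomputable section

universe u

open CategoryTheory CategoryTheory.Limits MonoidalCategory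

attribute [local instance] HasDerivedCategory.standard

namespace Groth.L12.Tor3

open Groth.L10.DTen Groth.L10.KFlat

variable (A : Type u) [CommRing A]

/-- Isomorphism classes of `D(A)`. -/
def Cl : Type (u + 1) := Quotient (isIsomorphicSetoid (Dual.D A))

variable {A}

/-- The class of an object. -/
def cl (X : Dual.D A) : Cl A := Quotient.mk _ X

theorem cl_eq_iff {X Y : Dual.D A} : cl X = cl Y ↔ Nonempty (X ≅ Y) :=
  ⟨fun h => Quotient.exact h, fun h => Quotient.sound h⟩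

theorem cl_congr {X Y : Dual.D A} (e : X ≅ Y) : cl X = cl Y := cl_eq_iff.2 ⟨e⟩

/-- `⊗^L` of two objects. -/
abbrev ten (X Y : Dual.D A) : Dual.D A :=
  haveI := hasLTen A
  (_root_.DTen.LTen₂ A).obj (X, Y)

theorem ten_congr {X X' Y Y' : Dual.D A} (e : X ≅ X') (f : Y ≅ Y') : Nonempty (ten X Y ≅ ten X' Y') := by
  haveI := hasLTen A
  exact ⟨(_root_.DTen.LTen₂ A).mapIso (Iso.prod e f)⟩

theorem ten_symm (X Y : Dual.D A) : Nonempty (ten Y X ≅ ten X Y) := by
  haveI := hasLTen A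
  haveI := isIso_symm (A := A) (X, Y)
  exact ⟨asIso ((_root_.DTen.symm A).app (X, Y))⟩

theorem ten_assoc (X Y Z : Dual.D A) : Nonempty (ten (ten X Y) Z ≅ ten X (ten Y Z)) := by
  haveI := hasLTen A
  haveI := hasLTen₃ A
  haveI := (isIso_assoc (A := A) (X, (Y, Z))).1
  haveI := (isIso_assoc (A := A) (X, (Y, Z))).2
  exact ⟨asIso ((_root_.DTen.assocL A).app (X, (Y, Z))) ≪≫ (asIso ((_root_.DTen.assocR A).app (X, (Y, Z)))).symm⟩

theorem ten_unit (X : Dual.D A) : Nonempty (ten X (_root_.DTen.unit A) ≅ X) := by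
  haveI := hasLTen A
  haveI := isIso_unitR (A := A) X
  exact ⟨asIso ((_root_.DTen.unitR A).app X)⟩

instance : Mul (Cl A) :=
  ⟨Quotient.map₂ ten fun _ _ ⟨e⟩ _ _ ⟨f⟩ => ten_congr e f⟩

instance : One (Cl A) := ⟨cl (_root_.DTen.unit A)⟩

theorem cl_mul (X Y : Dual.D A) : cl X * cl Y = cl (ten X Y) := rfl

instance : CommMonoid (Cl A) where
  mul_assoc := by
    rintro ⟨X⟩ ⟨Y⟩ ⟨Z⟩
    exact cl_eq_iff.2 (ten_assoc X Y Z)
  mul_comm := by
    rintro ⟨X⟩ ⟨Y⟩
    exact cl_eq_iff.2 (ten_symm Y X)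
  mul_one := by
    rintro ⟨X⟩
    exact cl_eq_iff.2 (ten_unit X)
  one_mul := by
    rintro ⟨X⟩
    exact (cl_eq_iff.2 (ten_symm X _)).trans (cl_eq_iff.2 (ten_unit X))

theorem cl_LTen₃ [_root_.DTen.HasLTen₃ A] (X Y Z : Dual.D A) :
    cl ((_root_.DTen.LTen₃ A).obj (X, (Y, Z))) = cl X * (cl Y * cl Z) := by
  haveI := hasLTen A
  haveI := (isIso_assoc (A := A) (X, (Y, Z))).2
  exact (cl_congr (asIso ((_root_.DTen.assocR A).app (X, (Y, Z))))).symm

theorem exists_cl (c : Cl A) : ∃ X, cl X = c := Quotient.exists_rep c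

/-- The class of `A[1]`, in the model of a complex concentrated in degree `-1`. -/
def sh : Cl A :=
  cl (DerivedCategory.Q.obj ((HomologicalComplex.single (ModuleCat.{u} A) (ComplexShape.up ℤ) (-1)).obj
    (𝟙_ (ModuleCat.{u} A))))

theorem cl_shift (X : Dual.D A) : cl (X⟦(1 : ℤ)⟧) = sh * cl X := by
  haveI := hasLTen A
  obtain ⟨K, hK, ⟨a⟩⟩ := exists_rep X
  let S : DRing.Cx A := (HomologicalComplex.single (ModuleCat.{u} A) (ComplexShape.up ℤ) (-1)).obj
    (𝟙_ (ModuleCat.{u} A))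
  haveI := isIso_ε A S K (Or.inr hK)
  rw [cl_congr ((shiftFunctor (Dual.D A) (1 : ℤ)).mapIso a.symm), ← cl_congr a, sh, cl_mul]
  refine cl_congr ?_
  let b : K⟦(1 : ℤ)⟧ ≅ S ⊗ K :=
    eqToIso (show K⟦(1 : ℤ)⟧ = K⟦-(-1 : ℤ)⟧ by rw [show -(-1 : ℤ) = 1 by norm_num]) ≪≫
      Single.βR S (-1) (fun p hp => HomologicalComplex.isZero_single_obj_X _ _ _ _ hp)
        (HomologicalComplex.singleObjXSelf _ _ _) K
  exact ((DerivedCategory.Q.commShiftIso (1 : ℤ)).app K).symm ≪≫ DerivedCategory.Q.mapIso b ≪≫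
    (asIso ((_root_.DTen.ε A).app (S, K))).symm

theorem cl_biprod_mul (X Y Z : Dual.D A) :
    cl (X ⊞ Y) * cl Z = cl (ten X Z ⊞ ten Y Z) := by
  haveI := hasLTen A
  haveI : (_root_.DTen.tensorRightD A Z).Additive := additive_right Z
  haveI := preservesBinaryBiproducts_of_preservesBiproducts (_root_.DTen.tensorRightD A Z)
  rw [cl_mul]
  exact cl_congr ((_root_.DTen.tensorRightD A Z).mapBiprod X Y)

end Groth.L12.Tor3
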