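import Groth.Agent.L12.Tor3.Rank
import Mathlib.Algebra.Module.Projective
import Mathlib.RingTheory.Finiteness.Prod
import Mathlib.LinearAlgebra.TensorProduct.Prod
import Mathlib.LinearAlgebra.TensorProduct.Pi
import Mathlib.Algebra.Module.LocalizedModule.Basic

/-!
The kernel of the restricted sum map, and localisation of its exterior powers.
-/

set_option autoImplicit false
set_option linter.style.haveILetI false
set_option backward.isDefEq.respectTransparency false
set_option backward.isDefEq.respectTransparency.types false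

noncomputable section

universe u

open scoped TensorProduct

namespace Groth.L12.Tor3

variable {A : Type u} [CommRing A] (J : Ideal A)

/-- A split kernel. -/
theorem kernel_projective {B P Q : Type u} [CommRing B] [AddCommGroup P] [Module B P] [AddCommGroup Q] [Module B Q]
    [Module.Finite B P] [Module.Projective B P] [Module.Projective B Q] (f : P →ₗ[B] Q) (hf : Function.Surjective f) :
    Module.Finite B (LinearMap.ker f) ∧ Module.Projective B (LinearMap.ker f) ∧
      Nonempty ((↥(LinearMap.ker f) × Q) ≃ₗ[B] P) := by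
  obtain ⟨σ, hσ⟩ := Module.projective_lifting_property f LinearMap.id hf
  have hσ' : ∀ w, f (σ w) = w := fun w => LinearMap.congr_fun hσ w
  let ρ : P →ₗ[B] LinearMap.ker f :=
    (LinearMap.id - σ ∘ₗ f).codRestrict _ fun z => by simp [hσ']
  have hρ : ρ ∘ₗ (LinearMap.ker f).subtype = LinearMap.id := LinearMap.ext fun z => Subtype.ext (by
    show (z : P) - σ (f z) = z
    rw [LinearMap.mem_ker.1 z.2, map_zero, sub_zero])
  refine ⟨Module.Finite.of_surjective ρ fun z => ⟨z, LinearMap.congr_fun hρ z⟩,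
    Module.Projective.of_split _ _ hρ, ⟨LinearEquiv.ofBijective ((LinearMap.ker f).subtype.coprod σ)
      ⟨(injective_iff_map_eq_zero _).2 ?_, fun z => ⟨(ρ z, f z), by simp [ρ]⟩⟩⟩⟩
  rintro ⟨z, w⟩ h
  have h' := congrArg f h
  simp only [LinearMap.coprod_apply, Submodule.coe_subtype, map_add, LinearMap.mem_ker.1 z.2, hσ', map_zero,
    zero_add] at h'
  subst h'
  exact Prod.ext (Subtype.ext (by simpa using h)) rfl

/-- The rank of the kernel of the restricted sum map. -/
theorem rank_kernel (J₁ J₂ J₃ : Ideal A) [Module.Finite A J] [Module.Finite A J₁] [Module.Finite A J₂] [Module.Finite A J₃]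
    [Module.Projective (A ⧸ J) ((A ⧸ J) ⊗[A] J)] [Module.Projective (A ⧸ J) ((A ⧸ J) ⊗[A] J₁)]
    [Module.Projective (A ⧸ J) ((A ⧸ J) ⊗[A] J₂)] [Module.Projective (A ⧸ J) ((A ⧸ J) ⊗[A] J₃)]
    (S : (↥J₁ × (↥J₂ × ↥J₃)) →ₗ[A] ↥J) (hS : Function.Surjective S) (Q : PrimeSpectrum (A ⧸ J)) :
    Module.Finite (A ⧸ J) (LinearMap.ker (S.baseChange (A ⧸ J))) ∧
    Module.Projective (A ⧸ J) (LinearMap.ker (S.baseChange (A ⧸ J))) ∧
    Module.rankAtStalk (LinearMap.ker (S.baseChange (A ⧸ J))) Q + Module.rankAtStalk ((A ⧸ J) ⊗[A] J) Q =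
      Module.rankAtStalk ((A ⧸ J) ⊗[A] J₁) Q + (Module.rankAtStalk ((A ⧸ J) ⊗[A] J₂) Q +
        Module.rankAtStalk ((A ⧸ J) ⊗[A] J₃) Q) := by
  let B := A ⧸ J
  let e : B ⊗[A] (↥J₁ × (↥J₂ × ↥J₃)) ≃ₗ[B] (B ⊗[A] J₁) × ((B ⊗[A] J₂) × (B ⊗[A] J₃)) :=
    (TensorProduct.prodRight A B B J₁ (↥J₂ × ↥J₃)).trans
      ((LinearEquiv.refl B _).prodCongr (TensorProduct.prodRight A B B J₂ J₃))
  haveI : Module.Finite B (B ⊗[A] (↥J₁ × (↥J₂ × ↥J₃))) := Module.Finite.base_change A B _
  haveI : Module.Projective B (B ⊗[A] (↥J₁ × (↥J₂ × ↥J₃))) := Module.Projective.of_equiv e.symm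
  obtain ⟨h1, h2, ⟨i⟩⟩ := kernel_projective (S.baseChange B) (LinearMap.baseChange_surjective B hS)
  refine ⟨h1, h2, ?_⟩
  let ie : (↥(LinearMap.ker (S.baseChange (A ⧸ J))) × ((A ⧸ J) ⊗[A] J)) ≃ₗ[A ⧸ J]
      (((A ⧸ J) ⊗[A] J₁) × (((A ⧸ J) ⊗[A] J₂) × ((A ⧸ J) ⊗[A] J₃))) := i.trans e
  have h := congrFun (Module.rankAtStalk_eq_of_equiv (R := A ⧸ J) (M := ↥(LinearMap.ker (S.baseChange (A ⧸ J))) × ((A ⧸ J) ⊗[A] J))
    (N := ((A ⧸ J) ⊗[A] J₁) × (((A ⧸ J) ⊗[A] J₂) × ((A ⧸ J) ⊗[A] J₃))) ie) Q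
  simp only [Module.rankAtStalk_prod, Pi.add_apply] at h
  exact h

variable (p : Ideal A) [p.IsPrime]

/-- `(A/J)_p ≅ A_p/JA_p`. -/
theorem nonempty_localized_pi (N : ℕ) :
    Nonempty (LocalizedModule p.primeCompl (Fin N → A ⧸ J) ≃ₗ[A]
      (Fin N → Localization.AtPrime p ⧸ J.map (algebraMap A (Localization.AtPrime p)))) := by
  let R := Localization.AtPrime p
  exact ⟨((LocalizedModule.equivTensorProduct p.primeCompl (Fin N → A ⧸ J)).restrictScalars A).trans
    (((TensorProduct.piRight A R R (fun _ : Fin N => A ⧸ J)).restrictScalars A).trans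
      (LinearEquiv.piCongrRight fun _ => (TensorProduct.tensorQuotEquivQuotSMul R J).trans
        ((Submodule.quotEquivOfEq _ _ (Ideal.smul_top_eq_map J)).trans
          (Submodule.Quotient.restrictScalarsEquiv A (J.map (algebraMap A R))))))⟩

/-- Mutually inverse maps up to a unit of the localisation. -/
theorem nonempty_localized_equiv {M N : Type u} [AddCommGroup M] [Module A M] [AddCommGroup N] [Module A N]
    (F : M →ₗ[A] N) (G : N →ₗ[A] M) (s : A) (hs : s ∈ p.primeCompl) (h₁ : ∀ v, G (F v) = s • v)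
    (h₂ : ∀ z, F (G z) = s • z) :
    Nonempty (LocalizedModule p.primeCompl M ≃ₗ[A] LocalizedModule p.primeCompl N) := by
  let F' := IsLocalizedModule.map p.primeCompl (LocalizedModule.mkLinearMap p.primeCompl M)
    (LocalizedModule.mkLinearMap p.primeCompl N) F
  let G' := IsLocalizedModule.map p.primeCompl (LocalizedModule.mkLinearMap p.primeCompl N)
    (LocalizedModule.mkLinearMap p.primeCompl M) G
  have hu : ∀ (X : Type u) [AddCommGroup X] [Module A X],
      Function.Bijective fun x : LocalizedModule p.primeCompl X => s • x := fun X _ _ =>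
    (Module.End.isUnit_iff _).1
      (IsLocalizedModule.map_units (LocalizedModule.mkLinearMap p.primeCompl X) ⟨s, hs⟩)
  have hGF : ∀ x, G' (F' x) = s • x := fun x => by
    have h : G' ∘ₗ F' = s • LinearMap.id := by
      refine IsLocalizedModule.linearMap_ext p.primeCompl (LocalizedModule.mkLinearMap p.primeCompl M)
        (LocalizedModule.mkLinearMap p.primeCompl M) (LinearMap.ext fun v => ?_)
      show G' (F' (LocalizedModule.mkLinearMap p.primeCompl M v)) = s • LocalizedModule.mkLinearMap p.primeCompl M v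
      rw [IsLocalizedModule.map_apply, IsLocalizedModule.map_apply, h₁, map_smul]
    exact LinearMap.congr_fun h x
  have hFG : ∀ x, F' (G' x) = s • x := fun x => by
    have h : F' ∘ₗ G' = s • LinearMap.id := by
      refine IsLocalizedModule.linearMap_ext p.primeCompl (LocalizedModule.mkLinearMap p.primeCompl N)
        (LocalizedModule.mkLinearMap p.primeCompl N) (LinearMap.ext fun v => ?_)
      show F' (G' (LocalizedModule.mkLinearMap p.primeCompl N v)) = s • LocalizedModule.mkLinearMap p.primeCompl N v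
      rw [IsLocalizedModule.map_apply, IsLocalizedModule.map_apply, h₂, map_smul]
    exact LinearMap.congr_fun h x
  refine ⟨LinearEquiv.ofBijective F' ⟨fun x y hxy => (hu M).1 ?_, fun y => ?_⟩⟩
  · show s • x = s • y
    rw [← hGF, ← hGF, hxy]
  · obtain ⟨z, hz⟩ := (hu N).2 y
    exact ⟨G' z, (hFG z).trans hz⟩

end Groth.L12.Tor3
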