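import Groth.Agent.L12.Tor3.Single
import Groth.Agent.L28.TensorQis
import Mathlib.RingTheory.Localization.BaseChange
import Mathlib.LinearAlgebra.Pi

/-!
Homology of localisations and of the formal objects `⊕ₖ M[k]^(r choose k)`.
-/

set_option autoImplicit false
set_option linter.style.haveILetI false
set_option backward.defeqAttrib.useBackward true
set_option backward.isDefEq.respectTransparency false
set_option backward.isDefEq.respectTransparency.types false

noncomputable section

universe u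

open CategoryTheory CategoryTheory.Limits MonoidalCategory CategoryTheory.Pretriangulated

attribute [local instance] HasDerivedCategory.standard

namespace Groth.L12.Tor3

open Groth.L10.DTen Groth.L10.KFlat

variable {A : Type u} [CommRing A]

/-- `⊗^L` with a localisation localises the cohomology. -/
theorem exists_localization_equiv (S : Submonoid A) {X Y : Dual.D A}
    (h : cl Y = cl X * cl (Dual.inD A (Localization S))) (n : ℤ) :
    Nonempty (LocalizedModule S (Dual.HD A X n) ≃ₗ[A] Dual.HD A Y n) := by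
  obtain ⟨K, hK, ⟨a⟩⟩ := exists_rep X
  let P : ModuleCat.{u} A := ModuleCat.of A (Localization S)
  haveI : Module.Flat A (Localization S) := IsLocalization.flat (Localization S) S
  haveI : (tensorLeft P).PreservesHomology := Groth.L28.TensorQis.preservesHomology_tensorLeft P
  let G := (curriedTensor (ModuleCat.{u} A)).obj P
  haveI : G.PreservesHomology := Groth.L28.TensorQis.preservesHomology_tensorLeft P
  rw [cl_congr a.symm, mul_comm] at h
  obtain ⟨e⟩ := cl_eq_iff.1 (h.trans (cl_single_mul P hK))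
  let i₁ : (DerivedCategory.homologyFunctor (ModuleCat.{u} A) n).obj Y ≅
      G.obj ((DerivedCategory.homologyFunctor (ModuleCat.{u} A) n).obj X) :=
    (DerivedCategory.homologyFunctor _ n).mapIso e ≪≫
      (DerivedCategory.homologyFunctorFactors _ n).app _ ≪≫
      (K.sc n).mapHomologyIso G ≪≫
      G.mapIso (((DerivedCategory.homologyFunctorFactors _ n).app K).symm ≪≫
        (DerivedCategory.homologyFunctor _ n).mapIso a)
  exact ⟨((LocalizedModule.equivTensorProduct S (Dual.HD A X n)).restrictScalars A).trans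
    i₁.symm.toLinearEquiv⟩

/-- `⊕ₖ X[k]^(r choose k)` -/
def W : ℕ → Dual.D A → Dual.D A
  | 0, X => X
  | r + 1, X => W r X ⊞ (W r X)⟦(1 : ℤ)⟧

theorem cl_biprod_congr {X X' Y Y' : Dual.D A} (h₁ : cl X = cl X') (h₂ : cl Y = cl Y') :
    cl (X ⊞ Y) = cl (X' ⊞ Y') := by
  obtain ⟨e⟩ := cl_eq_iff.1 h₁
  obtain ⟨f⟩ := cl_eq_iff.1 h₂
  exact cl_congr (biprod.mapIso e f)

theorem cl_W_mul {X : Dual.D A} {y : Cl A} (hy : cl X * y = cl (W 1 X)) (r : ℕ) :
    cl (W r X) * y = cl (W (r + 1) X) := by
  obtain ⟨Y, rfl⟩ := exists_cl y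
  induction r with
  | zero => exact hy
  | succ r ih =>
    show cl (W r X ⊞ (W r X)⟦(1 : ℤ)⟧) * cl Y = cl (W (r + 1) X ⊞ (W (r + 1) X)⟦(1 : ℤ)⟧)
    rw [cl_biprod_mul]
    refine cl_biprod_congr ?_ ?_
    · rw [← cl_mul]; exact ih
    · rw [← cl_mul, cl_shift, cl_shift, mul_assoc, ih]

/-- Cohomology of a biproduct. -/
def hdBiprod (X Y : Dual.D A) (n : ℤ) : Dual.HD A (X ⊞ Y) n ≃ₗ[A] (Dual.HD A X n × Dual.HD A Y n) :=
  haveI := preservesBinaryBiproducts_of_preservesBiproducts (DerivedCategory.homologyFunctor (ModuleCat.{u} A) n)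
  ((DerivedCategory.homologyFunctor (ModuleCat.{u} A) n).mapBiprod X Y ≪≫ ModuleCat.biprodIsoProd _ _).toLinearEquiv

/-- Cohomology of a shift. -/
def hdShift (X : Dual.D A) (n : ℤ) : Dual.HD A (X⟦(1 : ℤ)⟧) n ≃ₗ[A] Dual.HD A X (n + 1) :=
  (((DerivedCategory.homologyFunctor (ModuleCat.{u} A) 0).shiftIso 1 n (n + 1) (by omega)).app X).toLinearEquiv

theorem hd_W (M : Type u) [AddCommGroup M] [Module A M] (r : ℕ) :
    (∀ n : ℤ, 0 < n → Subsingleton (Dual.HD A (W r (Dual.inD A M)) n)) ∧
      ∀ q : ℕ, Nonempty (Dual.HD A (W r (Dual.inD A M)) (-(q : ℤ)) ≃ₗ[A] (Fin (r.choose q) → M)) := by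
  induction r with
  | zero =>
    refine ⟨fun n hn => ModuleCat.subsingleton_of_isZero
      (DerivedCategory.isZero_of_isLE (Dual.inD A M) 0 n hn), fun q => ?_⟩
    cases q with
    | zero =>
      exact ⟨((DerivedCategory.singleFunctorCompHomologyFunctorIso (ModuleCat.{u} A) 0).app
        (ModuleCat.of A M)).toLinearEquiv.trans (LinearEquiv.funUnique (Fin 1) A M).symm⟩
    | succ q =>
      haveI : Subsingleton (Dual.HD A (W 0 (Dual.inD A M)) (-((q + 1 : ℕ) : ℤ))) :=
        ModuleCat.subsingleton_of_isZero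
          (DerivedCategory.isZero_of_isGE (Dual.inD A M) 0 (-((q + 1 : ℕ) : ℤ)) (by omega))
      haveI : IsEmpty (Fin (Nat.choose 0 (q + 1))) := by rw [Nat.choose_zero_succ]; infer_instance
      exact ⟨LinearEquiv.ofSubsingleton _ _⟩
  | succ r ih =>
    obtain ⟨hv, hq⟩ := ih
    refine ⟨fun n hn => ?_, fun q => ?_⟩
    · haveI := hv n hn
      haveI := hv (n + 1) (by omega)
      haveI := (hdShift (W r (Dual.inD A M)) n).toEquiv.subsingleton
      exact (hdBiprod (W r (Dual.inD A M)) ((W r (Dual.inD A M))⟦(1 : ℤ)⟧) n).toEquiv.subsingleton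
    · let X := W r (Dual.inD A M)
      let e := (hdBiprod X (X⟦(1 : ℤ)⟧) (-(q : ℤ))).trans
        (LinearEquiv.prodCongr (LinearEquiv.refl A _) (hdShift X (-(q : ℤ))))
      obtain ⟨e₁⟩ := hq q
      cases q with
      | zero =>
        haveI : Subsingleton (Dual.HD A X (-((0 : ℕ) : ℤ) + 1)) := hv _ (by omega)
        haveI : Unique (Dual.HD A X (-((0 : ℕ) : ℤ) + 1)) := uniqueOfSubsingleton 0
        exact ⟨e.trans ((LinearEquiv.prodUnique (R := A) (M₂ := Dual.HD A X (-((0 : ℕ) : ℤ) + 1))
          (M := Dual.HD A X (-((0 : ℕ) : ℤ)))).trans (e₁.trans (LinearEquiv.funCongrLeft A M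
            (finCongr (by simp [Nat.choose_zero_right])))))⟩
      | succ q =>
        obtain ⟨e₂⟩ := hq q
        rw [show (-((q + 1 : ℕ) : ℤ) + 1) = -(q : ℤ) by omega] at e
        exact ⟨e.trans ((e₁.prodCongr e₂).trans ((LinearEquiv.sumArrowLequivProdArrow _ _ A M).symm.trans
          (LinearEquiv.funCongrLeft A M ((finCongr (by rw [Nat.choose_succ_succ, Nat.add_comm])).trans
            finSumFinEquiv.symm))))⟩

end Groth.L12.Tor3
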