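import Groth.Agent.L01.Regular
import Groth.Agent.L07.QuasiRegular
import Mathlib.LinearAlgebra.LinearIndependent.Lemmas
import Mathlib.RingTheory.Regular.RegularSequence
import Mathlib.RingTheory.Nakayama

/-!
Selecting a regular sequence out of generators of an ideal with regular quotient.
-/

set_option autoImplicit false
set_option linter.style.haveILetI false

noncomputable section

universe u

open IsLocalRing RingTheory.Sequence

namespace Groth.L12.Tor3

variable {R : Type u} [CommRing R]

theorem exists_minimal_subfamily [IsLocalRing R] [IsNoetherianRing R] {I : Ideal R} {n : ℕ} (x : Fin n → R)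
    (hx : Ideal.span (Set.range x) = I) (l : List R) (hl : Ideal.ofList l = I) :
    ∃ s : Finset (Fin n), s.card ≤ l.length ∧ Ideal.span (x '' ↑s) = I := by
  classical
  let K := R ⧸ maximalIdeal R
  letI : Field K := Ideal.Quotient.field _
  let V := I ⧸ (maximalIdeal R • ⊤ : Submodule R I)
  let q : I →ₗ[R] V := Submodule.mkQ _
  have hmem : ∀ i, x i ∈ I := fun i => hx ▸ Ideal.subset_span ⟨i, rfl⟩
  let v : Fin n → V := fun i => q ⟨x i, hmem i⟩
  have hspan : ∀ {ι : Type} (y : ι → R) (hy : Ideal.span (Set.range y) = I) (z : ι → V)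
      (hz : ∀ i, z i = q ⟨y i, hy ▸ Ideal.subset_span ⟨i, rfl⟩⟩),
      Submodule.span K (Set.range z) = ⊤ := by
    intro ι y hy z hz
    rw [eq_top_iff]
    rintro w -
    obtain ⟨⟨a, ha⟩, rfl⟩ := Submodule.mkQ_surjective _ w
    have ha' : a ∈ Submodule.span R (Set.range y) := by rw [← hy] at ha; exact ha
    obtain ⟨c, rfl⟩ := Finsupp.mem_span_range_iff_exists_finsupp.1 ha'
    have : (⟨c.sum fun i r => r • y i, ha⟩ : I) =
        c.sum fun i r => r • (⟨y i, hy ▸ Ideal.subset_span ⟨i, rfl⟩⟩ : I) :=
      Subtype.ext (by simp [Finsupp.sum, AddSubmonoidClass.coe_finsetSum])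
    rw [this, Finsupp.sum, map_sum]
    refine Submodule.sum_mem _ fun i _ => ?_
    rw [map_smul, ← hz, ← algebraMap_smul K (c i) (z i)]
    exact Submodule.smul_mem _ _ (Submodule.subset_span ⟨i, rfl⟩)
  obtain ⟨κ, a, ha, hsp, hli⟩ := exists_linearIndependent' K v
  haveI : Fintype κ := Fintype.ofInjective a ha
  have hv : Submodule.span K (Set.range v) = ⊤ := hspan x hx v fun i => rfl
  rw [hv] at hsp
  haveI : Module.Finite K V := .of_basis (Module.Basis.mk hli hsp.ge)
  refine ⟨Finset.univ.image a, ?_, ?_⟩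
  · rw [Finset.card_image_of_injective _ ha, Finset.card_univ]
    have hl' : Ideal.span (Set.range l.get) = I := by
      rw [← Groth.L07.QReg.ofList_ofFn, List.ofFn_get, hl]
    have hw := hspan l.get hl' _ fun i => rfl
    have h1 := finrank_range_le_card (R := K)
      (fun i : Fin l.length => q ⟨l.get i, hl' ▸ Ideal.subset_span ⟨i, rfl⟩⟩)
    rw [Set.finrank, hw, finrank_top] at h1
    refine hli.fintype_card_le_finrank.trans ?_
    simpa using h1
  · refine le_antisymm (Ideal.span_le.2 (by rintro _ ⟨i, -, rfl⟩; exact hmem i)) ?_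
    refine Submodule.le_of_le_smul_of_le_jacobson_bot (Ideal.fg_of_isNoetherianRing I)
      (maximalIdeal_le_jacobson _) fun y hy => ?_
    have hy' : q ⟨y, hy⟩ ∈ Submodule.span K (Set.range (v ∘ a)) := by rw [hsp]; trivial
    rw [← SetLike.mem_coe, Submodule.coe_span_eq_span_of_surjective R K Ideal.Quotient.mk_surjective] at hy'
    obtain ⟨c, hc⟩ := (Submodule.mem_span_range_iff_exists_fun R).1 hy'
    let z : I := ∑ i, c i • ⟨x (a i), hmem (a i)⟩
    have h0 : q (⟨y, hy⟩ - z) = 0 := by
      rw [map_sub, map_sum, sub_eq_zero, ← hc]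
      exact Finset.sum_congr rfl fun i _ => (map_smul q _ _).symm
    have h1 := (Submodule.Quotient.mk_eq_zero _).1 h0
    have h2 : ((⟨y, hy⟩ - z : I) : R) ∈ maximalIdeal R • I := by
      have := Submodule.mem_map_of_mem (f := I.subtype) h1
      rwa [Submodule.map_smul'', Submodule.map_top, Submodule.range_subtype] at this
    rw [Submodule.mem_sup]
    refine ⟨z, ?_, _, h2, by simp⟩
    simp only [z, AddSubmonoidClass.coe_finsetSum, SetLike.val_smul]
    exact Submodule.sum_mem _ fun i _ => Submodule.smul_mem _ _ (Ideal.subset_span ⟨a i, by simp, rfl⟩)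

/-- Out of any generators of an ideal with regular quotient one can select a regular sequence generating it. -/
theorem exists_select [IsRegularLocalRing R] {I : Ideal R} (hI : IsRegularLocalRing (R ⧸ I)) {n : ℕ}
    (x : Fin n → R) (hx : Ideal.span (Set.range x) = I) :
    ∃ s : Finset (Fin n), IsWeaklyRegular R (s.toList.map x) ∧ Ideal.ofList (s.toList.map x) = I := by
  classical
  obtain ⟨d, hd⟩ := Groth.L01.exists_dim_eq_nat (R := R)
  obtain ⟨l₁, l₂, hlen, hgen, hIl⟩ := Groth.L01.exists_lists_of_regular_quotient d R hd I hI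
  obtain ⟨s, hs, hsI⟩ := exists_minimal_subfamily x hx l₁ hIl.symm
  have hgI : Ideal.ofList (s.toList.map x) = I := by
    rw [← hsI, Ideal.ofList]
    congr 1
    ext y
    simp
  refine ⟨s, ?_, hgI⟩
  have hgen' : Ideal.ofList (s.toList.map x ++ l₂) = maximalIdeal R := by
    rw [Ideal.ofList_append, hgI, hIl, ← Ideal.ofList_append, hgen]
  have hlow : d ≤ (s.toList.map x ++ l₂).length := by
    have h1 := Groth.L01.spanFinrank_ofList_le (s.toList.map x ++ l₂)
    rw [hgen'] at h1
    have h2 := (isRegularLocalRing_iff R).mp ‹_›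
    rw [hd] at h2
    exact_mod_cast (show ((maximalIdeal R).spanFinrank : WithBot ℕ∞) = d from h2) ▸ (by exact_mod_cast h1 :
      ((maximalIdeal R).spanFinrank : WithBot ℕ∞) ≤ ((s.toList.map x ++ l₂).length : ℕ))
  have hup : (s.toList.map x ++ l₂).length ≤ d := by
    rw [← hlen, List.length_append, List.length_append, List.length_map, Finset.length_toList]
    omega
  have hreg := Groth.L01.isRegular_of_ofList_eq_maximalIdeal (s.toList.map x ++ l₂) hgen'
    (by rw [hd, le_antisymm hup hlow])
  exact ((isWeaklyRegular_append_iff R _ _).1 hreg.toIsWeaklyRegular).1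

end Groth.L12.Tor3
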