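import Groth.Agent.L12.Tor3.Homology
import Groth.Agent.L12.Tor3.Select
import Mathlib.LinearAlgebra.TensorProduct.Pi

/-!
The local computation of products of quotient modules in the monoid of classes.
-/

set_option autoImplicit false
set_option linter.style.haveILetI false
set_option backward.defeqAttrib.useBackward true
set_option backward.isDefEq.respectTransparency false
set_option backward.isDefEq.respectTransparency.types false

noncomputable section

universe u

open CategoryTheory CategoryTheory.Limits RingTheory.Sequence
open scoped TensorProduct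

attribute [local instance] HasDerivedCategory.standard

namespace Groth.L12.Tor3

variable {A : Type u} [CommRing A]

theorem cl_inD_congr {M N : Type u} [AddCommGroup M] [Module A M] [AddCommGroup N] [Module A N]
    (e : M ≃ₗ[A] N) : cl (Dual.inD A M) = cl (Dual.inD A N) :=
  cl_congr ((DerivedCategory.singleFunctor (ModuleCat.{u} A) 0).mapIso e.toModuleIso)

/-- The product of the one-element Koszul complexes of a list. -/
def kprod (l : List A) : Cl A := (l.map fun x => cl (kz x)).prod

theorem kprod_nil : kprod ([] : List A) = 1 := rfl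

theorem kprod_cons (x : A) (l : List A) : kprod (x :: l) = cl (kz x) * kprod l := by
  rw [kprod, List.map_cons, List.prod_cons, kprod]

theorem kprod_append (l m : List A) : kprod (l ++ m) = kprod l * kprod m := by
  rw [kprod, List.map_append, List.prod_append, kprod, kprod]

theorem kprod_split {n : ℕ} (a : Fin n → A) (s : Finset (Fin n)) :
    kprod (List.ofFn a) = kprod (s.toList.map a) * kprod (sᶜ.toList.map a) := by
  classical
  simp only [kprod, List.map_ofFn, List.map_map, List.prod_ofFn, Finset.prod_map_toList]
  exact (Finset.prod_mul_prod_compl s _).symm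

theorem cl_mul_kprod_regular : ∀ (l : List A) (M : Type u) [AddCommGroup M] [Module A M],
    IsWeaklyRegular M l →
      cl (Dual.inD A M) * kprod l = cl (Dual.inD A (M ⧸ (Ideal.ofList l • ⊤ : Submodule A M))) := by
  intro l
  induction l with
  | nil =>
    intro M _ _ _
    rw [kprod_nil, mul_one]
    exact (cl_inD_congr (Submodule.quotEquivOfEqBot _ (by simp))).symm
  | cons x l ih =>
    intro M _ _ h
    rw [isWeaklyRegular_cons_iff] at h
    obtain ⟨hx, hl⟩ := h
    rw [kprod_cons, ← mul_assoc, cl_inD_mul_kz_regular M x hx (N := QuotSMulTop x M)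
      (Submodule.mkQ _) (Submodule.mkQ_surjective _) (fun y => by
        rw [Submodule.mkQ_apply, Submodule.Quotient.mk_eq_zero, Submodule.mem_smul_pointwise_iff_exists]
        exact ⟨fun ⟨z, _, hz⟩ => ⟨z, hz⟩, fun ⟨z, hz⟩ => ⟨z, trivial, hz⟩⟩), ih _ hl]
    exact (cl_inD_congr (Submodule.quotOfListConsSMulTopEquivQuotSMulTopInner M x l)).symm

theorem cl_mul_kprod_killed (M : Type u) [AddCommGroup M] [Module A M] : ∀ (l : List A),
    (∀ x ∈ l, ∀ m : M, x • m = 0) →
      cl (Dual.inD A M) * kprod l = cl (W l.length (Dual.inD A M)) := by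
  intro l
  induction l with
  | nil => intro _; rw [kprod_nil, mul_one]; rfl
  | cons x l ih =>
    intro h
    rw [kprod_cons, mul_left_comm, ih fun y hy => h y (List.mem_cons_of_mem _ hy), mul_comm,
      cl_W_mul (cl_inD_mul_kz_killed M x (h x List.mem_cons_self))]
    rfl

section Localisation

variable (p : Ideal A) [p.IsPrime]

/-- The class of `A_p`. -/
abbrev locCl : Cl A := cl (Dual.inD A (Localization.AtPrime p))

theorem locCl_mul_self : locCl p * locCl p = locCl p := by
  let R := Localization.AtPrime p
  haveI : Module.Flat A R := IsLocalization.flat R p.primeCompl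
  haveI : IsLocalizedModule p.primeCompl (LinearMap.id : R →ₗ[A] R) := isLocalizedModule_id p.primeCompl R R
  rw [locCl, cl_inD_mul_flat]
  refine cl_inD_congr ?_
  exact ((LocalizedModule.equivTensorProduct p.primeCompl R).restrictScalars A).symm.trans
    (IsLocalizedModule.iso p.primeCompl (LinearMap.id : R →ₗ[A] R))

/-- `A_p ⊗ A/I = A_p/IA_p`. -/
def locQuot (I : Ideal A) : (Localization.AtPrime p) ⊗[A] (A ⧸ I) ≃ₗ[A]
    (Localization.AtPrime p ⧸ I.map (algebraMap A (Localization.AtPrime p))) :=
  (TensorProduct.tensorQuotEquivQuotSMul (Localization.AtPrime p) I).trans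
    ((Submodule.quotEquivOfEq _ _ (Ideal.smul_top_eq_map I)).trans
      (Submodule.Quotient.restrictScalarsEquiv A (I.map (algebraMap A (Localization.AtPrime p)))))

theorem cl_quot_mul_loc (I : Ideal A) : cl (Dual.inD A (A ⧸ I)) * locCl p =
    cl (Dual.inD A (Localization.AtPrime p ⧸ I.map (algebraMap A (Localization.AtPrime p)))) := by
  haveI : Module.Flat A (Localization.AtPrime p) := IsLocalization.flat _ p.primeCompl
  rw [locCl, cl_inD_mul_flat]
  exact cl_inD_congr ((TensorProduct.comm A _ _).trans (locQuot p I))

theorem locCl_mul_kprod {l : List A}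
    (hl : IsWeaklyRegular (Localization.AtPrime p) (l.map (algebraMap A (Localization.AtPrime p))))
    {I : Ideal A} (hI : Ideal.ofList (l.map (algebraMap A (Localization.AtPrime p))) =
      I.map (algebraMap A (Localization.AtPrime p))) :
    locCl p * kprod l = cl (Dual.inD A (Localization.AtPrime p ⧸ I.map (algebraMap A (Localization.AtPrime p)))) := by
  rw [locCl, cl_mul_kprod_regular l _ ((isWeaklyRegular_map_algebraMap_iff _ _ _).1 hl)]
  refine cl_inD_congr ((Submodule.quotEquivOfEq _ ((I.map (algebraMap A _)).restrictScalars A) ?_).trans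
    (Submodule.Quotient.restrictScalarsEquiv A _))
  rw [Ideal.smul_top_eq_map, Ideal.map_ofList, hI]

end Localisation

theorem isZero_ten {X Z : Dual.D A} (hZ : IsZero Z) : IsZero (ten X Z) := by
  haveI := Groth.L10.DTen.hasLTen A
  haveI : ((_root_.DTen.LTen A).obj X).Additive := Groth.L10.DTen.additive_left X
  exact ((_root_.DTen.LTen A).obj X).map_isZero hZ

theorem isZero_inD (M : Type u) [AddCommGroup M] [Module A M] [Subsingleton M] : IsZero (Dual.inD A M) :=
  (DerivedCategory.singleFunctor (ModuleCat.{u} A) 0).map_isZero
    (ModuleCat.isZero_of_subsingleton (ModuleCat.of A M))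

/-- Selection of a regular sequence among given elements of `A`, at a prime. -/
theorem exists_select_at (p : Ideal A) [p.IsPrime] [IsRegularLocalRing (Localization.AtPrime p)] (I : Ideal A)
    (hI : IsRegularLocalRing (Localization.AtPrime p ⧸ I.map (algebraMap A (Localization.AtPrime p))))
    {n : ℕ} (a : Fin n → A)
    (ha : Ideal.span (Set.range fun i => algebraMap A (Localization.AtPrime p) (a i)) =
      I.map (algebraMap A (Localization.AtPrime p))) :
    ∃ s : Finset (Fin n),
      IsWeaklyRegular (Localization.AtPrime p) ((s.toList.map a).map (algebraMap A (Localization.AtPrime p))) ∧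
      Ideal.ofList ((s.toList.map a).map (algebraMap A (Localization.AtPrime p))) =
        I.map (algebraMap A (Localization.AtPrime p)) := by
  obtain ⟨s, h1, h2⟩ := exists_select hI (fun i => algebraMap A (Localization.AtPrime p) (a i)) ha
  exact ⟨s, by rw [List.map_map]; exact h1, by rw [List.map_map]; exact h2⟩

end Groth.L12.Tor3
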