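import Groth.Agent.L12.Tor3.Local
import Groth.Agent.L12.Tor3.Excess
import Groth.Agent.L03.GeomRegular
import Groth.Agent.L01.RootExt
import Groth.Prelude.Def_DTen2

/-!
The triple Tor modules of smooth quotients, localised at a prime.
-/

set_option autoImplicit false
set_option linter.style.haveILetI false
set_option backward.defeqAttrib.useBackward true
set_option backward.isDefEq.respectTransparency false
set_option backward.isDefEq.respectTransparency.types false

noncomputable section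

universe u

open CategoryTheory CategoryTheory.Limits
open scoped TensorProduct

attribute [local instance] HasDerivedCategory.standard

namespace Groth.L12.Tor3

/-- The triple Tor at a prime where the intersection is empty. -/
theorem subsingleton_tor_of_not_le {A : Type u} [CommRing A] [_root_.DTen.HasLTen₃ A] (J₁ J₂ J₃ : Ideal A)
    (p : Ideal A) [p.IsPrime] (h : ¬ J₁ ⊔ J₂ ⊔ J₃ ≤ p) (n : ℤ) :
    Subsingleton (LocalizedModule p.primeCompl (Dual.HD A ((_root_.DTen.LTen₃ A).obj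
      (Dual.inD A (A ⧸ J₁), (Dual.inD A (A ⧸ J₂), Dual.inD A (A ⧸ J₃)))) n)) := by
  let T := (_root_.DTen.LTen₃ A).obj (Dual.inD A (A ⧸ J₁), (Dual.inD A (A ⧸ J₂), Dual.inD A (A ⧸ J₃)))
  let Y := ten T (Dual.inD A (Localization.AtPrime p))
  obtain ⟨e⟩ := exists_localization_equiv (A := A) p.primeCompl (X := T) (Y := Y) (cl_mul _ _).symm n
  have hcl : cl Y = cl (Dual.inD A (A ⧸ J₁)) * (cl (Dual.inD A (A ⧸ J₂)) * cl (Dual.inD A (A ⧸ J₃))) * locCl p := by
    rw [show cl Y = cl T * locCl p from (cl_mul _ _).symm, cl_LTen₃]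
  suffices hz : IsZero Y by
    haveI : Subsingleton (Dual.HD A Y n) := ModuleCat.subsingleton_of_isZero
      ((DerivedCategory.homologyFunctor (ModuleCat.{u} A) n).map_isZero hz)
    exact e.toEquiv.subsingleton
  have key : ∀ (I : Ideal A) (c : Cl A), ¬ I ≤ p →
      cl Y = c * (cl (Dual.inD A (A ⧸ I)) * locCl p) → IsZero Y := fun I c hI hY => by
    haveI : Subsingleton (Localization.AtPrime p ⧸ I.map (algebraMap A (Localization.AtPrime p))) := by
      obtain ⟨t, htI, htp⟩ := Set.not_subset.1 hI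
      refine Ideal.Quotient.subsingleton_iff.2 (Ideal.eq_top_of_isUnit_mem _ (Ideal.mem_map_of_mem _ htI) ?_)
      exact IsLocalization.map_units (Localization.AtPrime p) (⟨t, htp⟩ : p.primeCompl)
    obtain ⟨X, rfl⟩ := exists_cl c
    rw [cl_quot_mul_loc, cl_mul] at hY
    obtain ⟨i⟩ := cl_eq_iff.1 hY
    exact (isZero_ten (isZero_inD _)).of_iso i
  have h' : ¬ (J₁ ≤ p ∧ J₂ ≤ p ∧ J₃ ≤ p) := fun ⟨a, b, c⟩ => h (sup_le (sup_le a b) c)
  by_cases h1 : J₁ ≤ p
  · by_cases h2 : J₂ ≤ p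
    · exact key J₃ (cl (Dual.inD A (A ⧸ J₁)) * cl (Dual.inD A (A ⧸ J₂))) (fun h3 => h' ⟨h1, h2, h3⟩)
        (hcl.trans (by ac_rfl))
    · exact key J₂ (cl (Dual.inD A (A ⧸ J₁)) * cl (Dual.inD A (A ⧸ J₃))) h2 (hcl.trans (by ac_rfl))
  · exact key J₁ (cl (Dual.inD A (A ⧸ J₂)) * cl (Dual.inD A (A ⧸ J₃))) h1 (hcl.trans (by ac_rfl))

/-- A module over `A/J` vanishes at a prime not containing `J`. -/
theorem subsingleton_restrict_of_not_le {A : Type u} [CommRing A] (J : Ideal A) (M : Type u) [AddCommGroup M]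
    [Module (A ⧸ J) M] (p : Ideal A) [p.IsPrime] (hp : ¬ J ≤ p) :
    Subsingleton (LocalizedModule p.primeCompl (RestrictScalars A (A ⧸ J) M)) := by
  obtain ⟨t, htJ, htp⟩ := Set.not_subset.1 hp
  refine LocalizedModule.subsingleton_iff.2 fun z => ⟨t, htp, ?_⟩
  show algebraMap A (A ⧸ J) t • (RestrictScalars.addEquiv A (A ⧸ J) M z) = 0
  rw [Ideal.Quotient.algebraMap_eq, Ideal.Quotient.eq_zero_iff_mem.2 htJ, zero_smul]

variable {k A : Type u} [Field k] [CommRing A] [Algebra k A] [Algebra.Smooth k A]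

variable (k) in
include k in
theorem isRegularLocalRing_loc (p : Ideal A) [p.IsPrime] : IsRegularLocalRing (Localization.AtPrime p) := by
  haveI : IsRegularRing A := Groth.L03.GeomRegular.isRegularRing_of_smooth k A
  exact IsRegularRing.isRegularLocalRing_localization p

theorem isRegularLocalRing_quot_loc (I : Ideal A) [Algebra.Smooth k (A ⧸ I)] (p : Ideal A) [p.IsPrime]
    (hI : I ≤ p) :
    IsRegularLocalRing (Localization.AtPrime p ⧸ I.map (algebraMap A (Localization.AtPrime p))) := by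
  haveI : IsRegularRing (A ⧸ I) := Groth.L03.GeomRegular.isRegularRing_of_smooth k (A ⧸ I)
  exact Groth.L01.RootExt.isRegularLocalRing_quotient_localization I p hI

/-- Elements of `I` forming a regular sequence at `p` generating `I` there. -/
theorem exists_local_gens (I : Ideal A) [Algebra.Smooth k (A ⧸ I)] (p : Ideal A) [p.IsPrime] (hI : I ≤ p) :
    ∃ f : List A, (∀ x ∈ f, x ∈ I) ∧
      RingTheory.Sequence.IsWeaklyRegular (Localization.AtPrime p) (f.map (algebraMap A (Localization.AtPrime p))) ∧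
      Ideal.ofList (f.map (algebraMap A (Localization.AtPrime p))) = I.map (algebraMap A (Localization.AtPrime p)) := by
  haveI : IsNoetherianRing A := Algebra.FiniteType.isNoetherianRing k A
  haveI := isRegularLocalRing_loc k p
  obtain ⟨n, a, ha⟩ := Submodule.fg_iff_exists_fin_generating_family.1 (IsNoetherian.noetherian I)
  obtain ⟨s, h1, h2⟩ := exists_select_at p I (isRegularLocalRing_quot_loc (k := k) I p hI) a (by
    rw [← ha]
    show _ = Ideal.map _ (Ideal.span _)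
    rw [Ideal.map_span, ← Set.range_comp]
    rfl)
  refine ⟨s.toList.map a, fun x hx => ?_, h1, h2⟩
  obtain ⟨i, -, rfl⟩ := List.mem_map.1 hx
  exact ha ▸ Submodule.subset_span ⟨i, rfl⟩

theorem exists_bijective [_root_.DTen.HasLTen₃ A] (J₁ J₂ J₃ J : Ideal A) (hJ : J = J₁ ⊔ J₂ ⊔ J₃)
    [Algebra.Smooth k (A ⧸ J₁)] [Algebra.Smooth k (A ⧸ J₂)] [Algebra.Smooth k (A ⧸ J₃)] [Algebra.Smooth k (A ⧸ J)]
    (S : (↥J₁ × (↥J₂ × ↥J₃)) →ₗ[A] ↥J) (hS : ∀ x, (S x : A) = (x.1 : A) + (x.2.1 : A) + (x.2.2 : A))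
    (q : ℕ) (p : Ideal A) [p.IsPrime] :
    ∃ f : LocalizedModule p.primeCompl
          (Dual.HD A ((_root_.DTen.LTen₃ A).obj (Dual.inD A (A ⧸ J₁), (Dual.inD A (A ⧸ J₂), Dual.inD A (A ⧸ J₃)))) (-(q : ℤ)))
        →ₗ[A] LocalizedModule p.primeCompl
          (RestrictScalars A (A ⧸ J)
            ↥(ExteriorAlgebra.exteriorPower (A ⧸ J) q ↥(LinearMap.ker (S.baseChange (A ⧸ J))))),
      Function.Bijective f := by
  classical
  haveI : IsNoetherianRing A := Algebra.FiniteType.isNoetherianRing k A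
  by_cases hp : J ≤ p
  swap
  · haveI := subsingleton_tor_of_not_le J₁ J₂ J₃ p (hJ ▸ hp) (-(q : ℤ))
    haveI := subsingleton_restrict_of_not_le J (↥(ExteriorAlgebra.exteriorPower (A ⧸ J) q
      ↥(LinearMap.ker (S.baseChange (A ⧸ J))))) p hp
    exact ⟨0, Function.injective_of_subsingleton _, fun y => ⟨0, Subsingleton.elim _ _⟩⟩
  let R := Localization.AtPrime p
  haveI := isRegularLocalRing_loc k p
  have h₁J : J₁ ≤ J := by
    rw [hJ]
    exact (le_sup_left : J₁ ≤ J₁ ⊔ J₂).trans le_sup_left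
  have h₂J : J₂ ≤ J := by
    rw [hJ]
    exact (le_sup_right : J₂ ≤ J₁ ⊔ J₂).trans le_sup_left
  have h₃J : J₃ ≤ J := by
    rw [hJ]
    exact le_sup_right
  have egens₁ := exists_local_gens (k := k) J₁ p (h₁J.trans hp)
  obtain ⟨f₁, hm₁, hr₁, hg₁⟩ := egens₁
  have egens₂ := exists_local_gens (k := k) J₂ p (h₂J.trans hp)
  obtain ⟨f₂, hm₂, hr₂, hg₂⟩ := egens₂
  have egens₃ := exists_local_gens (k := k) J₃ p (h₃J.trans hp)
  obtain ⟨f₃, hm₃, hr₃, hg₃⟩ := egens₃
  let F := f₁ ++ (f₂ ++ f₃)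
  have hFJ : ∀ x ∈ F, x ∈ J := fun x hx => by
    rcases List.mem_append.1 hx with h | h
    · exact h₁J (hm₁ x h)
    rcases List.mem_append.1 h with h | h
    · exact h₂J (hm₂ x h)
    · exact h₃J (hm₃ x h)
  have hFgen : Ideal.span (Set.range fun i => algebraMap A R (F.get i)) = J.map (algebraMap A R) := by
    rw [← Groth.L07.QReg.ofList_ofFn,
      show (List.ofFn fun i => algebraMap A R (F.get i)) = (List.ofFn F.get).map (algebraMap A R) from
        (List.map_ofFn (f := F.get) (g := algebraMap A R)).symm, List.ofFn_get]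
    rw [List.map_append, List.map_append, Ideal.ofList_append, Ideal.ofList_append, hg₁, hg₂, hg₃, hJ,
      Ideal.map_sup, Ideal.map_sup, sup_assoc]
  have esel := exists_select_at p J (isRegularLocalRing_quot_loc (k := k) J p hp) F.get hFgen
  obtain ⟨s, hrs, hgs⟩ := esel
  let g := s.toList.map F.get
  let r := sᶜ.toList.map F.get
  have hlen : r.length + g.length = f₁.length + (f₂.length + f₃.length) := by
    simp only [g, r, List.length_map, Finset.length_toList]
    rw [Finset.card_compl_add_card, Fintype.card_fin]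
    simp [F]
  let R' := R ⧸ J.map (algebraMap A R)
  let T := (_root_.DTen.LTen₃ A).obj (Dual.inD A (A ⧸ J₁), (Dual.inD A (A ⧸ J₂), Dual.inD A (A ⧸ J₃)))
  have hkill : ∀ x ∈ r, ∀ m : R', x • m = 0 := fun x hx m => by
    obtain ⟨i, -, rfl⟩ := List.mem_map.1 hx
    have h0 : algebraMap A R' (F.get i) = 0 :=
      Ideal.Quotient.eq_zero_iff_mem.2 (Ideal.mem_map_of_mem _ (hFJ _ (List.get_mem F i)))
    rw [← algebraMap_smul R' (F.get i) m, h0]
    exact zero_smul R' m
  have hclass : cl (W r.length (Dual.inD A R')) = cl T * locCl p := by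
    rw [← cl_mul_kprod_killed R' r hkill, ← locCl_mul_kprod p hrs hgs, mul_assoc, ← kprod_split F.get s,
      List.ofFn_get, cl_LTen₃]
    calc locCl p * kprod F
        = (locCl p * locCl p * locCl p) * (kprod f₁ * (kprod f₂ * kprod f₃)) := by
          rw [locCl_mul_self, locCl_mul_self, kprod_append, kprod_append]
      _ = (locCl p * kprod f₁) * ((locCl p * kprod f₂) * (locCl p * kprod f₃)) := by ac_rfl
      _ = (cl (Dual.inD A (A ⧸ J₁)) * locCl p) * ((cl (Dual.inD A (A ⧸ J₂)) * locCl p) *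
            (cl (Dual.inD A (A ⧸ J₃)) * locCl p)) := by
          rw [locCl_mul_kprod p hr₁ hg₁, locCl_mul_kprod p hr₂ hg₂, locCl_mul_kprod p hr₃ hg₃,
            cl_quot_mul_loc, cl_quot_mul_loc, cl_quot_mul_loc]
      _ = (cl (Dual.inD A (A ⧸ J₁)) * (cl (Dual.inD A (A ⧸ J₂)) * cl (Dual.inD A (A ⧸ J₃)))) *
            (locCl p * locCl p * locCl p) := by ac_rfl
      _ = _ := by rw [locCl_mul_self, locCl_mul_self]
  have eL0 := exists_localization_equiv (A := A) p.primeCompl (X := T) hclass (-(q : ℤ))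
  obtain ⟨eL⟩ := eL0
  have eW0 := (hd_W (A := A) R' r.length).2 q
  obtain ⟨eW⟩ := eW0
  haveI := projective_restrict (k := k) J J le_rfl
  haveI := projective_restrict (k := k) J₁ J h₁J
  haveI := projective_restrict (k := k) J₂ J h₂J
  haveI := projective_restrict (k := k) J₃ J h₃J
  let Q : Ideal (A ⧸ J) := p.map (Ideal.Quotient.mk J)
  haveI : Q.IsPrime := Ideal.map_isPrime_of_surjective Ideal.Quotient.mk_surjective (by rwa [Ideal.mk_ker])
  have hQ : Q.comap (Ideal.Quotient.mk J) = p := by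
    rw [Ideal.comap_map_of_surjective' _ Ideal.Quotient.mk_surjective, Ideal.mk_ker, sup_eq_left.2 hp]
  have hSsurj : Function.Surjective S := fun y => by
    have hy : (y : A) ∈ J₁ ⊔ J₂ ⊔ J₃ := hJ ▸ y.2
    obtain ⟨u, hu, c, hc, huc⟩ := Submodule.mem_sup.1 hy
    obtain ⟨a, ha, b, hb, hab⟩ := Submodule.mem_sup.1 hu
    exact ⟨(⟨a, ha⟩, (⟨b, hb⟩, ⟨c, hc⟩)), Subtype.ext (by rw [hS]; show a + b + c = _; rw [hab, huc])⟩
  have hK0 := rank_kernel J J₁ J₂ J₃ S hSsurj ⟨Q, ‹_›⟩
  obtain ⟨hKf, hKp, hK⟩ := hK0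
  rw [rankAtStalk_restrict J p hp J le_rfl hrs hgs ⟨Q, ‹_›⟩ hQ,
    rankAtStalk_restrict J p hp J₁ h₁J hr₁ hg₁ ⟨Q, ‹_›⟩ hQ,
    rankAtStalk_restrict J p hp J₂ h₂J hr₂ hg₂ ⟨Q, ‹_›⟩ hQ,
    rankAtStalk_restrict J p hp J₃ h₃J hr₃ hg₃ ⟨Q, ‹_›⟩ hQ] at hK
  simp only [List.length_map] at hK
  haveI := hKf
  haveI := hKp
  have hΦ0 := exists_localized_exterior J p (LinearMap.ker (S.baseChange (A ⧸ J)))
    r.length q Q hQ (by simp only [g, r, List.length_map] at hlen hK ⊢; omega)
  obtain ⟨Φ, Γ, t, ht, hΓΦ, hΦΓ⟩ := hΦ0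
  have eR0 := nonempty_localized_equiv p Φ Γ t ht hΓΦ hΦΓ
  obtain ⟨eR⟩ := eR0
  have eP0 := nonempty_localized_pi J p (r.length.choose q)
  obtain ⟨eP⟩ := eP0
  exact ⟨(eL.trans (eW.trans (eP.symm.trans eR))).toLinearMap, (eL.trans (eW.trans (eP.symm.trans eR))).bijective⟩

end Groth.L12.Tor3
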