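import Groth.Agent.L07.QuasiRegular
import Groth.Agent.L19.Jacobian.Basic
import Mathlib.RingTheory.Smooth.Kaehler
import Mathlib.RingTheory.Smooth.Basic
import Mathlib.RingTheory.Flat.Localization
import Mathlib.LinearAlgebra.ExteriorPower.Basis
import Mathlib.LinearAlgebra.TensorProduct.Quotient
import Mathlib.RingTheory.Localization.BaseChange

/-!
Ranks of the restricted conormal modules and their exterior powers at a prime.
-/

set_option autoImplicit false
set_option linter.style.haveILetI false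
set_option backward.isDefEq.respectTransparency false
set_option backward.isDefEq.respectTransparency.types false

noncomputable section

universe u

open scoped TensorProduct
open RingTheory.Sequence

namespace Groth.L12.Tor3

/-- The restriction of `I/I²` is free on a regular sequence generating `I`. -/
theorem exists_basis_restrict {R : Type u} [CommRing R] {f : List R} (hf : IsWeaklyRegular R f) (I : Ideal R)
    (hI : Ideal.ofList f = I) (J : Ideal R) (hIJ : I ≤ J) :
    Nonempty ((Fin f.length → R ⧸ J) ≃ₗ[R ⧸ J] (R ⧸ J) ⊗[R] I) := by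
  classical
  let x : Fin f.length → R := f.get
  have hq : CAlgX.IsQuasiRegular x :=
    Groth.L07.QReg.isQuasiRegular_of_isWeaklyRegular (by rw [List.ofFn_get]; exact hf)
  have hspan : Ideal.span (Set.range x) = I := by
    rw [← Groth.L07.QReg.ofList_ofFn, List.ofFn_get, hI]
  let g : Fin f.length → I := fun i => ⟨x i, hspan ▸ Ideal.subset_span ⟨i, rfl⟩⟩
  have hgen : ∀ y : I, ∃ a : Fin f.length → R, ∑ i, a i • g i = y := fun y => by
    obtain ⟨a, ha⟩ := Ideal.mem_span_range_iff_exists_fun.1 (hspan.ge y.2)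
    exact ⟨a, Subtype.ext (by simpa [g, AddSubmonoidClass.coe_finsetSum] using ha)⟩
  have hker : ∀ a : Fin f.length → R, ∑ i, a i • g i = 0 → ∀ i, a i ∈ J := fun a ha i => by
    have h0 : ∑ i, a i * x i = 0 := by
      simpa [g, AddSubmonoidClass.coe_finsetSum] using congrArg Subtype.val ha
    refine hIJ (hspan ▸ ?_)
    have h := hq 1 (∑ j, MvPolynomial.C (a j) * MvPolynomial.X j)
      (MvPolynomial.IsHomogeneous.sum _ _ _ fun j _ => (MvPolynomial.isHomogeneous_X R j).C_mul _)
      (by simp [h0]) (Finsupp.single i 1)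
    simpa [MvPolynomial.coeff_sum, MvPolynomial.coeff_C_mul, MvPolynomial.coeff_X',
      Finsupp.single_eq_single_iff, eq_comm] using h
  let π : (Fin f.length → R) →ₗ[R] I := Fintype.linearCombination R g
  have hπ : Function.Surjective π := fun y => by
    obtain ⟨a, ha⟩ := hgen y
    exact ⟨a, by rw [Fintype.linearCombination_apply, ha]⟩
  let red : (Fin f.length → R) →ₗ[R] (Fin f.length → R ⧸ J) :=
    (Algebra.linearMap R (R ⧸ J)).compLeft (Fin f.length)
  have hred : LinearMap.ker π ≤ LinearMap.ker red := fun a ha => by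
    rw [LinearMap.mem_ker] at ha ⊢
    rw [Fintype.linearCombination_apply] at ha
    funext i
    exact Ideal.Quotient.eq_zero_iff_mem.2 (hker a ha i)
  let φ : I →ₗ[R] (Fin f.length → R ⧸ J) :=
    (LinearMap.ker π).liftQ red hred ∘ₗ (π.quotKerEquivOfSurjective hπ).symm.toLinearMap
  have hφ : ∀ a, φ (π a) = red a := fun a => by
    show (LinearMap.ker π).liftQ red hred ((π.quotKerEquivOfSurjective hπ).symm (π a)) = red a
    rw [show π a = (π.quotKerEquivOfSurjective hπ) (Submodule.Quotient.mk a) from rfl, LinearEquiv.symm_apply_apply,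
      Submodule.liftQ_apply]
  let ψ : (Fin f.length → R ⧸ J) →ₗ[R ⧸ J] (R ⧸ J) ⊗[R] I :=
    Fintype.linearCombination (R ⧸ J) fun i => (1 : R ⧸ J) ⊗ₜ g i
  let θ : (R ⧸ J) ⊗[R] I →ₗ[R ⧸ J] (Fin f.length → R ⧸ J) := φ.liftBaseChange (R ⧸ J)
  have hθψ : ∀ v, θ (ψ v) = v := fun v => by
    rw [Fintype.linearCombination_apply, map_sum]
    conv_rhs => rw [pi_eq_sum_univ' v]
    refine Finset.sum_congr rfl fun i _ => ?_
    rw [map_smul, LinearMap.liftBaseChange_tmul, one_smul,
      show g i = π (Pi.single i 1) by simp [π, Fintype.linearCombination_apply_single], hφ]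
    congr 1
    funext j
    by_cases h : i = j <;> simp [red, Pi.single_apply, h, eq_comm]
  have hψ : Function.Surjective ψ := fun z => by
    induction z using TensorProduct.induction_on with
    | zero => exact ⟨0, map_zero _⟩
    | add a b ha hb =>
      obtain ⟨u, rfl⟩ := ha
      obtain ⟨v, rfl⟩ := hb
      exact ⟨u + v, map_add _ _ _⟩
    | tmul b y =>
      obtain ⟨a, rfl⟩ := hgen y
      refine ⟨b • fun i => algebraMap R (R ⧸ J) (a i), ?_⟩
      rw [map_smul, Fintype.linearCombination_apply, TensorProduct.tmul_sum, Finset.smul_sum]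
      refine Finset.sum_congr rfl fun i _ => ?_
      rw [algebraMap_smul, ← TensorProduct.tmul_smul, TensorProduct.smul_tmul', smul_eq_mul, mul_one]
  exact ⟨LinearEquiv.ofBijective ψ ⟨fun u v h => by rw [← hθψ u, ← hθψ v, h], hψ⟩⟩

section

variable {k A : Type u} [CommRing k] [CommRing A] [Algebra k A] [Algebra.FormallySmooth k A]

/-- The restriction of `I/I²` to a smaller closed subscheme is projective. -/
theorem projective_restrict (I J : Ideal A) (hIJ : I ≤ J) [Algebra.FormallySmooth k (A ⧸ I)] :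
    Module.Projective (A ⧸ J) ((A ⧸ J) ⊗[A] I) := by
  have hf : Function.Surjective (algebraMap A (A ⧸ I)) := Ideal.Quotient.mk_surjective
  have hker : RingHom.ker (algebraMap A (A ⧸ I)) = I := by
    rw [Ideal.Quotient.algebraMap_eq, Ideal.mk_ker]
  obtain ⟨l, hl⟩ := (Algebra.FormallySmooth.iff_split_injection (R := k) (P := A) hf).1 inferInstance
  let e : ((A ⧸ I) ⊗[A] I) ≃ₗ[A] (RingHom.ker (algebraMap A (A ⧸ I))).Cotangent := by
    rw [hker]
    exact TensorProduct.quotTensorEquivQuotSMul I I
  let i : ((A ⧸ I) ⊗[A] I) →ₗ[A ⧸ I] (A ⧸ I) ⊗[A] Ω[A⁄k] :=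
    (KaehlerDifferential.kerCotangentToTensor k A (A ⧸ I) ∘ₗ e.toLinearMap).extendScalarsOfSurjective hf
  let r : (A ⧸ I) ⊗[A] Ω[A⁄k] →ₗ[A ⧸ I] ((A ⧸ I) ⊗[A] I) :=
    (e.symm.toLinearMap ∘ₗ l).extendScalarsOfSurjective hf
  haveI hP : Module.Projective (A ⧸ I) ((A ⧸ I) ⊗[A] I) := Module.Projective.of_split i r (LinearMap.ext fun x => by
    show e.symm (l (KaehlerDifferential.kerCotangentToTensor k A (A ⧸ I) (e x))) = x
    rw [← LinearMap.comp_apply l, hl, LinearMap.id_apply, LinearEquiv.symm_apply_apply])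
  letI : Algebra (A ⧸ I) (A ⧸ J) := (Ideal.Quotient.factor hIJ).toAlgebra
  haveI : IsScalarTower A (A ⧸ I) (A ⧸ J) := IsScalarTower.of_algebraMap_eq fun _ => rfl
  exact Module.Projective.of_equiv (TensorProduct.AlgebraTensorModule.cancelBaseChange A (A ⧸ I) (A ⧸ J) (A ⧸ J) I)

end

variable {A : Type u} [CommRing A] (J : Ideal A) (p : Ideal A) [p.IsPrime]

/-- The rank of `(A/J) ⊗ I` at a prime is the length of a regular sequence generating `I` there. -/
theorem rankAtStalk_restrict (hJp : J ≤ p) (I : Ideal A) (hIJ : I ≤ J) [Module.Finite A I]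
    [Module.Projective (A ⧸ J) ((A ⧸ J) ⊗[A] I)] {f : List (Localization.AtPrime p)}
    (hf : IsWeaklyRegular (Localization.AtPrime p) f)
    (hI : Ideal.ofList f = I.map (algebraMap A (Localization.AtPrime p))) (q : PrimeSpectrum (A ⧸ J))
    (hq : q.asIdeal.comap (Ideal.Quotient.mk J) = p) :
    Module.rankAtStalk ((A ⧸ J) ⊗[A] I) q = f.length := by
  classical
  let R := Localization.AtPrime p
  let I' : Ideal R := I.map (algebraMap A R)
  let J' : Ideal R := J.map (algebraMap A R)
  let B := A ⧸ J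
  letI : Algebra B (R ⧸ J') := (Ideal.quotientMap J' (algebraMap A R) Ideal.le_comap_map).toAlgebra
  haveI : IsScalarTower A B (R ⧸ J') := IsScalarTower.of_algebraMap_eq fun a =>
    (Ideal.quotientMap_mk (I := J') (f := algebraMap A R) (H := Ideal.le_comap_map)).symm
  have hJ'le : J' ≤ IsLocalRing.maximalIdeal R := by
    rw [← Localization.AtPrime.map_eq_maximalIdeal]
    exact Ideal.map_mono hJp
  haveI : Nontrivial (R ⧸ J') := Ideal.Quotient.nontrivial_iff.2 fun h =>
    (IsLocalRing.maximalIdeal.isMaximal R).ne_top (top_le_iff.1 (h ▸ hJ'le))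
  haveI : IsLocalRing (R ⧸ J') := IsLocalRing.of_surjective' (Ideal.Quotient.mk J') Ideal.Quotient.mk_surjective
  let m : PrimeSpectrum (R ⧸ J') := IsLocalRing.closedPoint _
  have hm : m.comap (algebraMap B (R ⧸ J')) = q := by
    refine PrimeSpectrum.ext (Ideal.comap_injective_of_surjective _ Ideal.Quotient.mk_surjective ?_)
    rw [hq]
    show ((IsLocalRing.maximalIdeal (R ⧸ J')).comap (Ideal.quotientMap J' (algebraMap A R) Ideal.le_comap_map)).comap
      (Ideal.Quotient.mk J) = p
    rw [Ideal.comap_comap, Ideal.quotientMap_comp_mk, ← Ideal.comap_comap,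
      ← IsLocalRing.map_maximalIdeal_of_surjective (Ideal.Quotient.mk J') Ideal.Quotient.mk_surjective,
      Ideal.comap_map_of_surjective' _ Ideal.Quotient.mk_surjective, Ideal.mk_ker, sup_eq_left.2 hJ'le]
    exact IsLocalization.AtPrime.comap_maximalIdeal R p
  rw [← hm, ← Module.rankAtStalk_baseChange (S := R ⧸ J') (M := B ⊗[A] I) m]
  let μ : R ⊗[A] I →ₗ[R] R := ((Algebra.linearMap A R) ∘ₗ I.subtype).liftBaseChange R
  have hμinj : Function.Injective μ := by
    haveI : Module.Flat A R := IsLocalization.flat R p.primeCompl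
    have h1 : (μ : R ⊗[A] I → R) = (TensorProduct.rid A R) ∘ (LinearMap.lTensor R I.subtype) := by
      funext z
      induction z using TensorProduct.induction_on with
      | zero => simp
      | add a b ha hb => simp only [map_add, Function.comp_apply] at ha hb ⊢; rw [ha, hb]
      | tmul r y => simp [μ, Algebra.smul_def, mul_comm]
    rw [h1]
    exact (TensorProduct.rid A R).injective.comp (Module.Flat.lTensor_preserves_injective_linearMap _ I.injective_subtype)
  have hμrange : LinearMap.range μ = I' := by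
    rw [LinearMap.range_liftBaseChange]
    show Submodule.span R _ = Ideal.span _
    congr 1
    ext z
    simp [Algebra.linearMap_apply]
  let e₀ : R ⊗[A] I ≃ₗ[R] I' := (LinearEquiv.ofInjective μ hμinj).trans (LinearEquiv.ofEq _ _ hμrange)
  obtain ⟨b⟩ := exists_basis_restrict hf I' hI J' (Ideal.map_mono hIJ)
  let e : (R ⧸ J') ⊗[B] (B ⊗[A] I) ≃ₗ[R ⧸ J'] (Fin f.length → R ⧸ J') :=
    (TensorProduct.AlgebraTensorModule.cancelBaseChange A B (R ⧸ J') (R ⧸ J') I).trans
      ((TensorProduct.AlgebraTensorModule.cancelBaseChange A R (R ⧸ J') (R ⧸ J') I).symm.trans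
        ((TensorProduct.AlgebraTensorModule.congr (LinearEquiv.refl (R ⧸ J') (R ⧸ J')) e₀).trans b.symm))
  rw [congrFun (Module.rankAtStalk_eq_of_equiv e) m]
  simp [Module.rankAtStalk_eq_finrank_of_free]

/-- Elements forming a basis at a prime, with functionals scaling the coordinates. -/
theorem exists_coords_at {n : ℕ} {B P : Type u} [CommRing B] [AddCommGroup P] [Module B P] [Module.Finite B P]
    [Module.Projective B P] (p : Ideal B) [p.IsPrime]
    (hn : Module.rankAtStalk P (⟨p, ‹_›⟩ : PrimeSpectrum B) = n) :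
    ∃ (m : Fin n → P) (φ : Fin n → (P →ₗ[B] B)) (s : B),
      s ∉ p ∧ (∀ x, s • x ∈ Submodule.span B (Set.range m)) ∧
      ∀ i j, φ i (m j) = if i = j then s else 0 := by
  classical
  let Bp := Localization.AtPrime p
  let Pp := LocalizedModule p.primeCompl P
  let loc : P →ₗ[B] Pp := LocalizedModule.mkLinearMap p.primeCompl P
  haveI : Module.Free Bp Pp := by
    have h : (⟨p, ‹_›⟩ : PrimeSpectrum B) ∈ Module.freeLocus B P := by
      rw [Module.freeLocus_eq_univ]; trivial
    exact h
  haveI : Module.Finite Bp Pp := inferInstance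
  let b₀ : Module.Basis (Fin n) Bp Pp := Module.finBasisOfFinrankEq Bp Pp hn
  choose ms hms using fun i => IsLocalizedModule.surj p.primeCompl loc (b₀ i)
  let m : Fin n → P := fun i => (ms i).1
  have hu : ∀ i, IsUnit (algebraMap B Bp ((ms i).2 : B)) := fun i => IsLocalization.map_units Bp (ms i).2
  let b : Module.Basis (Fin n) Bp Pp := b₀.unitsSMul fun i => (hu i).unit
  have hb : ∀ i, b i = loc (m i) := fun i => by
    rw [Module.Basis.unitsSMul_apply, Units.smul_def, IsUnit.unit_spec, algebraMap_smul]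
    exact hms i
  -- spanning
  obtain ⟨N, π, hπ⟩ := Module.Finite.exists_fin' B P
  obtain ⟨σ, hσ⟩ := Module.projective_lifting_property π LinearMap.id hπ
  let g : Fin N → P := fun k => π (Pi.single k 1)
  obtain ⟨t, ht⟩ := IsLocalization.exist_integer_multiples_of_finite p.primeCompl
    (fun x : Fin n × Fin N => b.repr (loc (g x.2)) x.1)
  choose c hc using ht
  have h1 : ∀ k, loc ((t : B) • g k) = loc (∑ i, c (i, k) • m i) := fun k => by
    rw [map_sum, map_smul]
    conv_lhs => rw [← b.sum_repr (loc (g k))]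
    rw [Finset.smul_sum]
    refine Finset.sum_congr rfl fun i _ => ?_
    rw [map_smul, ← hb, ← smul_assoc, ← algebraMap_smul Bp (c (i, k)), hc]
  choose u hu' using fun k => IsLocalizedModule.exists_of_eq (S := p.primeCompl) (h1 k)
  let u₀ : p.primeCompl := ∏ k, u k
  have hu₀ : ∀ k, ((u₀ : B) * t) • g k = ∑ i, ((u₀ : B) * c (i, k)) • m i := fun k => by
    obtain ⟨v, hv⟩ := Finset.dvd_prod_of_mem u (Finset.mem_univ k)
    have := congrArg (fun z => (v : B) • z) (hu' k)
    simp only [Submonoid.smul_def, Finset.smul_sum, smul_smul] at this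
    show ((u₀ : B) * t) • g k = _
    rw [show (u₀ : B) = v * u k by rw [show u₀ = u k * v from hv]; push_cast; ring]
    simpa [mul_assoc] using this
  -- functionals
  let ψ : Fin n → (P →ₗ[B] B) := fun i =>
    { toFun := fun x => ∑ k, σ x k * c (i, k)
      map_add' := fun x y => by simp [add_mul, Finset.sum_add_distrib]
      map_smul' := fun r x => by simp [Finset.mul_sum, mul_assoc] }
  have hψ : ∀ i x, algebraMap B Bp (ψ i x) = algebraMap B Bp t * b.repr (loc x) i := fun i x => by
    conv_rhs => rw [show x = π (σ x) from (LinearMap.congr_fun hσ x).symm, pi_eq_sum_univ' (σ x)]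
    simp only [map_sum, map_smul, ψ, LinearMap.coe_mk, AddHom.coe_mk, map_mul,
      Finsupp.coe_finset_sum, Finset.sum_apply, Finset.mul_sum]
    refine Finset.sum_congr rfl fun k _ => ?_
    rw [hc (i, k), ← algebraMap_smul Bp (σ x k), map_smul, Finsupp.smul_apply, smul_eq_mul,
      Algebra.smul_def]
    simp only [g]
    ring
  have h2 : ∀ i j, algebraMap B Bp (ψ i (m j)) = algebraMap B Bp (if i = j then (t : B) else 0) := by
    intro i j
    rw [hψ, ← hb, b.repr_self, Finsupp.single_apply]
    by_cases h : i = j <;> simp [h, eq_comm]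
  choose w hw using fun i j => IsLocalization.exists_of_eq (M := p.primeCompl) (h2 i j)
  let w₀ : p.primeCompl := ∏ x : Fin n × Fin n, w x.1 x.2
  refine ⟨m, fun i => ((u₀ : B) * w₀) • ψ i, u₀ * w₀ * t, (u₀ * w₀ * t).2, fun x => ?_, fun i j => ?_⟩
  · rw [show x = π (σ x) from (LinearMap.congr_fun hσ x).symm, pi_eq_sum_univ' (σ x), map_sum,
      Finset.smul_sum]
    refine Submodule.sum_mem _ fun k _ => ?_
    rw [map_smul, smul_comm]
    refine Submodule.smul_mem _ _ ?_
    rw [show (u₀ : B) * w₀ * t = w₀ * (u₀ * t) by ring, mul_smul, hu₀]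
    exact Submodule.smul_mem _ _ (Submodule.sum_mem _ fun i _ =>
      Submodule.smul_mem _ _ (Submodule.subset_span ⟨i, rfl⟩))
  · obtain ⟨v, hv⟩ := Finset.dvd_prod_of_mem (fun x : Fin n × Fin n => w x.1 x.2) (Finset.mem_univ (i, j))
    rw [LinearMap.smul_apply, smul_eq_mul, show (w₀ : B) = (w i j : B) * v by
      rw [show w₀ = w i j * v from hv]; rfl]
    calc (u₀ : B) * ((w i j : B) * v) * ψ i (m j)
        = (u₀ : B) * v * ((w i j : B) * ψ i (m j)) := by ring
      _ = _ := by rw [hw i j]; split_ifs <;> ring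

/-- Localised exterior powers of a projective module of rank `r` at the point. -/
theorem exists_localized_exterior (K : Type u) [AddCommGroup K] [Module (A ⧸ J) K]
    [Module.Finite (A ⧸ J) K] [Module.Projective (A ⧸ J) K] (r : ℕ) (q : ℕ)
    (Q : Ideal (A ⧸ J)) [Q.IsPrime] (hQ : Q.comap (Ideal.Quotient.mk J) = p)
    (hr : Module.rankAtStalk K (⟨Q, ‹_›⟩ : PrimeSpectrum (A ⧸ J)) = r) :
    ∃ (F : (Fin (r.choose q) → A ⧸ J) →ₗ[A] RestrictScalars A (A ⧸ J) ↥(⋀[A ⧸ J]^q K))
      (G : RestrictScalars A (A ⧸ J) ↥(⋀[A ⧸ J]^q K) →ₗ[A] (Fin (r.choose q) → A ⧸ J)) (s : A),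
      s ∈ p.primeCompl ∧ (∀ v, G (F v) = s • v) ∧ ∀ z, F (G z) = s • z := by
  classical
  let B := A ⧸ J
  let Bp := Localization.AtPrime Q
  let Kp := LocalizedModule Q.primeCompl K
  haveI : Module.Free Bp Kp := by
    have h : (⟨Q, ‹_›⟩ : PrimeSpectrum B) ∈ Module.freeLocus B K := by
      rw [Module.freeLocus_eq_univ]; trivial
    exact h
  obtain ⟨m, φ, s, hs, hspan, hφ⟩ := exists_coords_at (n := r) Q hr
  let π : (Fin r → B) →ₗ[B] K := Fintype.linearCombination B m
  let Φ : K →ₗ[B] (Fin r → B) := LinearMap.pi φ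
  have hΦπ : Φ ∘ₗ π = s • LinearMap.id := by
    refine LinearMap.ext fun v => funext fun i => ?_
    show φ i (π v) = s * v i
    rw [Fintype.linearCombination_apply, map_sum, Finset.sum_eq_single i]
    · rw [map_smul, hφ, if_pos rfl, smul_eq_mul, mul_comm]
    · intro j _ hj
      rw [map_smul, hφ, if_neg (Ne.symm hj), smul_zero]
    · exact fun h => absurd (Finset.mem_univ i) h
  have hπΦ : s • (π ∘ₗ Φ) = (s * s) • LinearMap.id := by
    refine LinearMap.ext fun x => ?_
    obtain ⟨a, ha⟩ := (Submodule.mem_span_range_iff_exists_fun B).1 (hspan x)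
    have h1 : π a = s • x := by rw [Fintype.linearCombination_apply, ha]
    show s • π (Φ x) = (s * s) • x
    rw [← map_smul, ← map_smul, ← h1, ← LinearMap.comp_apply Φ, hΦπ, LinearMap.smul_apply, LinearMap.id_apply,
      map_smul, h1, mul_smul]
  have hmap : ∀ {M N : Type u} [AddCommGroup M] [Module B M] [AddCommGroup N] [Module B N] (c : B) (f : M →ₗ[B] N),
      exteriorPower.map q (c • f) = c ^ q • exteriorPower.map q f := fun {M N} _ _ _ _ c f => by
    refine exteriorPower.linearMap_ext (AlternatingMap.ext fun v => ?_)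
    simp only [LinearMap.compAlternatingMap_apply, LinearMap.smul_apply, exteriorPower.map_apply_ιMulti]
    exact (by simpa using (exteriorPower.ιMulti B q (M := N)).toMultilinearMap.map_smul_univ (fun _ => c) (f ∘ v) :
      exteriorPower.ιMulti B q (fun i => c • f (v i)) = c ^ q • exteriorPower.ιMulti B q (f ∘ v))
  let e := ((Pi.basisFun B (Fin r)).exteriorPower q).equivFun.trans
    (LinearEquiv.funCongrLeft B B (Fintype.equivFinOfCardEq (by
      rw [← Nat.card_eq_fintype_card, Set.powersetCard.card, Nat.card_fin])).symm)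
  let F : (Fin (r.choose q) → B) →ₗ[B] ↥(⋀[B]^q K) := exteriorPower.map q π ∘ₗ e.symm.toLinearMap
  let G : ↥(⋀[B]^q K) →ₗ[B] (Fin (r.choose q) → B) := (s ^ q) • (e.toLinearMap ∘ₗ exteriorPower.map q Φ)
  obtain ⟨t, ht⟩ := Ideal.Quotient.mk_surjective s
  have htp : t ∉ p := fun h => hs (by rw [← ht]; exact (Ideal.mem_comap.1 (hQ.ge h)))
  let F' : (Fin (r.choose q) → B) →ₗ[A] RestrictScalars A B ↥(⋀[B]^q K) :=
    { toFun := fun v => F v
      map_add' := F.map_add
      map_smul' := fun a v => by rw [← algebraMap_smul B a v]; exact F.map_smul _ _ }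
  let G' : RestrictScalars A B ↥(⋀[B]^q K) →ₗ[A] (Fin (r.choose q) → B) :=
    { toFun := fun z => G z
      map_add' := G.map_add
      map_smul' := fun a z => (G.map_smul (algebraMap A B a) z).trans (algebraMap_smul B a (G z)) }
  refine ⟨F', G', (t * t) ^ q, ?_, fun v => ?_, fun z => ?_⟩
  · exact fun h => htp ((Ideal.IsPrime.mem_or_mem ‹p.IsPrime› (Ideal.IsPrime.mem_of_pow_mem ‹p.IsPrime› q h)).elim id id)
  · have h1 : exteriorPower.map q Φ (exteriorPower.map q π (e.symm v)) = s ^ q • e.symm v := by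
      rw [← LinearMap.comp_apply, ← exteriorPower.map_comp, hΦπ, hmap, exteriorPower.map_id]; rfl
    show (s ^ q) • e (exteriorPower.map q Φ (exteriorPower.map q π (e.symm v))) = _
    rw [h1, map_smul, e.apply_symm_apply, smul_smul, ← algebraMap_smul B ((t * t) ^ q) v,
      Ideal.Quotient.algebraMap_eq, map_pow, map_mul, ht, mul_pow]
  · show exteriorPower.map q π (e.symm ((s ^ q) • e (exteriorPower.map q Φ z))) = _
    rw [map_smul, map_smul, e.symm_apply_apply, ← LinearMap.comp_apply, ← exteriorPower.map_comp,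
      ← LinearMap.smul_apply, ← hmap, hπΦ, hmap, exteriorPower.map_id, LinearMap.smul_apply, LinearMap.id_apply]
    show _ = algebraMap A B ((t * t) ^ q) • (show ↥(⋀[B]^q K) from z)
    rw [Ideal.Quotient.algebraMap_eq, map_pow, map_mul, ht]

end Groth.L12.Tor3
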