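import Groth.Agent.L12.Tor3.Cl
import Groth.Agent.L05.Kosz.Basic
import Groth.Agent.L29.Dual.HomD
import Mathlib.Algebra.Homology.DerivedCategory.SingleTriangle

/-!
`⊗^L` of modules with one-element Koszul complexes and with flat modules.
-/

set_option autoImplicit false
set_option linter.style.haveILetI false
set_option backward.defeqAttrib.useBackward true
set_option backward.isDefEq.respectTransparency false
set_option backward.isDefEq.respectTransparency.types false

noncomputable section

universe u

open CategoryTheory CategoryTheory.Limits MonoidalCategory CategoryTheory.Pretriangulated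

attribute [local instance] HasDerivedCategory.standard

namespace Groth.L12.Tor3

open Groth.L10.DTen Groth.L10.KFlat

variable {A : Type u} [CommRing A]

/-- complexes in degree zero -/
abbrev sc0 (A : Type u) [CommRing A] : ModuleCat.{u} A ⥤ DRing.Cx A :=
  CochainComplex.singleFunctor (ModuleCat.{u} A) 0

/-- `singleFunctor = Q ∘ single` -/
def singleQ : DerivedCategory.singleFunctor (ModuleCat.{u} A) 0 ≅ sc0 A ⋙ DerivedCategory.Q :=
  (SingleFunctors.evaluation _ _ 0).mapIso (DerivedCategory.singleFunctorsPostcompQIso (ModuleCat.{u} A))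

theorem isKFlat_single_of_flat (P : Type u) [AddCommGroup P] [Module A P] [Module.Flat A P] :
    DRing.IsKFlat A ((sc0 A).obj (ModuleCat.of A P)) := by
  refine of_bounded _ 0 (fun i hi => ?_) (fun p => ?_)
  · exact HomologicalComplex.isZero_single_obj_X (ComplexShape.up ℤ) 0 _ i (by omega)
  · by_cases hp : p = 0
    · subst hp
      exact Module.Flat.of_linearEquiv
        ((HomologicalComplex.singleObjXSelf (ComplexShape.up ℤ) 0 (ModuleCat.of A P)).toLinearEquiv)
    · haveI : Subsingleton (((sc0 A).obj (ModuleCat.of A P)).X p) := ModuleCat.subsingleton_of_isZero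
        (HomologicalComplex.isZero_single_obj_X (ComplexShape.up ℤ) 0 (ModuleCat.of A P) p hp)
      haveI : Module.Projective A (((sc0 A).obj (ModuleCat.of A P)).X p) :=
        haveI := Module.Free.of_subsingleton A (((sc0 A).obj (ModuleCat.of A P)).X p); Module.Projective.of_free
      exact Module.Flat.of_projective

/-- `M[0] ⊗ K` computed degreewise. -/
theorem cl_single_mul (M : ModuleCat.{u} A) {K : DRing.Cx A} (hK : DRing.IsKFlat A K) :
    cl ((DerivedCategory.singleFunctor (ModuleCat.{u} A) 0).obj M) * cl (DerivedCategory.Q.obj K) =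
      cl (DerivedCategory.Q.obj ((((curriedTensor (ModuleCat.{u} A)).obj M).mapHomologicalComplex
        (ComplexShape.up ℤ)).obj K)) := by
  haveI := hasLTen A
  rw [cl_congr (singleQ.app M), cl_mul]
  haveI := isIso_ε A ((sc0 A).obj M) K (Or.inr hK)
  refine cl_congr (asIso ((_root_.DTen.ε A).app ((sc0 A).obj M, K)) ≪≫ DerivedCategory.Q.mapIso ?_)
  let F := curriedTensor (ModuleCat.{u} A)
  let G : ∀ N : ModuleCat.{u} A, DRing.Cx A := fun N =>
    ((F.obj N).mapHomologicalComplex (ComplexShape.up ℤ)).obj K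
  let e : ((sc0 A).obj M).X 0 ≅ M := HomologicalComplex.singleObjXSelf (ComplexShape.up ℤ) 0 M
  exact (Single.iso F ((sc0 A).obj M) 0
      (fun p hp => HomologicalComplex.isZero_single_obj_X (ComplexShape.up ℤ) 0 M p hp) K).symm ≪≫
    (shiftFunctorZero' (DRing.Cx A) (-0 : ℤ) neg_zero).app _ ≪≫
    (NatIso.mapHomologicalComplex (F.mapIso e) (ComplexShape.up ℤ)).app K

/-- `M ⊗^L P = M ⊗ P` for flat `P`. -/
theorem cl_inD_mul_flat (M P : Type u) [AddCommGroup M] [Module A M] [AddCommGroup P] [Module A P]
    [Module.Flat A P] : cl (Dual.inD A M) * cl (Dual.inD A P) = cl (Dual.inD A (TensorProduct A M P)) := by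
  show _ * cl ((DerivedCategory.singleFunctor (ModuleCat.{u} A) 0).obj (ModuleCat.of A P)) = _
  rw [cl_congr (singleQ.app (ModuleCat.of A P))]
  refine (cl_single_mul (ModuleCat.of A M) (isKFlat_single_of_flat P)).trans (cl_congr ?_)
  exact DerivedCategory.Q.mapIso ((HomologicalComplex.singleMapHomologicalComplex
    ((curriedTensor (ModuleCat.{u} A)).obj (ModuleCat.of A M)) (ComplexShape.up ℤ) 0).app (ModuleCat.of A P)) ≪≫
      (singleQ.app (((curriedTensor (ModuleCat.{u} A)).obj (ModuleCat.of A M)).obj (ModuleCat.of A P))).symm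

/-- The Koszul complex of one element. -/
abbrev kz (x : A) : Dual.D A := DerivedCategory.Q.obj (_root_.Koszul.koszul A [x])

theorem isKFlat_kz (x : A) : DRing.IsKFlat A (_root_.Koszul.koszul A [x]) :=
  cone _ (isKFlat_single_of_flat A) (isKFlat_single_of_flat A)

theorem cl_inD_mul_kz (M : Type u) [AddCommGroup M] [Module A M] (x : A) :
    cl (Dual.inD A M) * cl (kz x) =
      cl (DerivedCategory.Q.obj (CochainComplex.mappingCone ((sc0 A).map (x • 𝟙 (ModuleCat.of A M))))) := by
  refine (cl_single_mul (ModuleCat.of A M) (isKFlat_kz x)).trans (cl_congr (DerivedCategory.Q.mapIso ?_))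
  let G := (curriedTensor (ModuleCat.{u} A)).obj (ModuleCat.of A M)
  let e : (G.mapHomologicalComplex (ComplexShape.up ℤ)).obj (_root_.Koszul.koszul A []) ≅
      (sc0 A).obj (ModuleCat.of A M) :=
    (HomologicalComplex.singleMapHomologicalComplex G (ComplexShape.up ℤ) 0).app (ModuleCat.of A A) ≪≫
      (sc0 A).mapIso (ρ_ (ModuleCat.of A M))
  have h1 : (sc0 A).map (x • 𝟙 (ModuleCat.of A M)) = x • 𝟙 _ := by
    rw [Functor.map_smul, CategoryTheory.Functor.map_id]
  refine CochainComplex.mappingCone.mapHomologicalComplexIso (x • 𝟙 (_root_.Koszul.koszul A [])) G ≪≫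
    Groth.L05.Kosz.coneIso e _ _ ?_
  rw [h1, Functor.map_smul, CategoryTheory.Functor.map_id, Linear.smul_comp, Linear.comp_smul,
    Category.id_comp, Category.comp_id]

theorem cl_inD_mul_kz_regular (M : Type u) [AddCommGroup M] [Module A M] (x : A) (hx : IsSMulRegular M x)
    {N : Type u} [AddCommGroup N] [Module A N] (π : M →ₗ[A] N) (hπ : Function.Surjective π)
    (hker : Function.Exact (fun m => x • m) π) :
    cl (Dual.inD A M) * cl (kz x) = cl (Dual.inD A N) := by
  rw [cl_inD_mul_kz]
  have hS := Groth.L29.HomD.sc_shortExact (x • (LinearMap.id : M →ₗ[A] M)) π hx hπ hker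
  let f : ModuleCat.of A M ⟶ ModuleCat.of A M := x • 𝟙 (ModuleCat.of A M)
  have hT := DerivedCategory.mappingCone_triangle_distinguished ((sc0 A).map f)
  let i := isoTriangleOfIso₁₂ _ _ hS.singleTriangle_distinguished hT (singleQ.app _) (singleQ.app _)
    (singleQ.hom.naturality f)
  exact cl_congr (Triangle.π₃.mapIso i).symm

theorem cl_inD_mul_kz_killed (M : Type u) [AddCommGroup M] [Module A M] (x : A) (hx : ∀ m : M, x • m = 0) :
    cl (Dual.inD A M) * cl (kz x) = cl (Dual.inD A M ⊞ (Dual.inD A M)⟦(1 : ℤ)⟧) := by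
  rw [cl_inD_mul_kz]
  have h0 : x • 𝟙 (ModuleCat.of A M) = 0 := ModuleCat.hom_ext (LinearMap.ext hx)
  have hT := DerivedCategory.mappingCone_triangle_distinguished ((sc0 A).map (x • 𝟙 (ModuleCat.of A M)))
  have hT' := rot_of_distTriang _ hT
  obtain ⟨e, -⟩ := exists_iso_binaryBiproduct_of_distTriang _ hT' (by
    show -((DerivedCategory.Q.map ((sc0 A).map (x • 𝟙 (ModuleCat.of A M))))⟦(1 : ℤ)⟧') = 0
    rw [h0, Functor.map_zero, Functor.map_zero, Functor.map_zero, neg_zero])
  let s := (singleQ (A := A)).app (ModuleCat.of A M)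
  exact cl_congr (e ≪≫ biprod.mapIso s.symm ((shiftFunctor (Dual.D A) (1 : ℤ)).mapIso s.symm))

end Groth.L12.Tor3
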